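import Mathlib
import Groth.Prelude.Def_Found
import Groth.Prelude.Def_EGA4b
import Groth.Agent.FlatLoc6.GeomProp
import Groth.Agent.FlatLoc6.BaseChangeEss

/-! Geometric local properties of the fibres of a morphism, read on affine charts. -/

set_option autoImplicit false
set_option linter.style.haveILetI false
set_option backward.isDefEq.respectTransparency false
set_option backward.isDefEq.respectTransparency.types false

universe u

open CategoryTheory CategoryTheory.Limits AlgebraicGeometry TopologicalSpace TensorProduct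

namespace Groth.Agent.GeomFib

variable (L : ∀ (R : Type u) [CommRing R], Prop)

/-- A local-ring property invariant under isomorphism. -/
def IsoInvariant : Prop := ∀ {R S : Type u} [CommRing R] [CommRing S], (R ≃+* S) → L R → L S

/-- The property at all local rings of a ring. -/
def Loc (R : Type u) [CommRing R] : Prop := ∀ (p : Ideal R) [p.IsPrime], L (Localization.AtPrime p)

/-- The property geometrically at all local rings of an algebra over a field. -/
def GRA (K : Type u) [Field K] (S : Type u) [CommRing S] [Algebra K S] : Prop :=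
  ∀ (k' : Type u) [Field k'] [Algebra K k'], Module.Finite K k' → Loc L (k' ⊗[K] S)

/-- The property at all points of all finite field extensions of the fibre at a field-valued point. -/
def Q {X Y : Scheme.{u}} (f : X ⟶ Y) {K : Type u} [Field K] (σ : Spec (CommRingCat.of K) ⟶ Y) : Prop :=
  ∀ (k' : Type u) [Field k'] (α : K →+* k'), α.Finite →
    ∀ z : (pullback f (Spec.map (CommRingCat.ofHom α) ≫ σ) : Scheme.{u}),
      L ((pullback f (Spec.map (CommRingCat.ofHom α) ≫ σ)).presheaf.stalk z)

variable {L} (hL : IsoInvariant L)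
include hL

theorem stalk_openImmersion {Z Z' : Scheme.{u}} (o : Z ⟶ Z') [IsOpenImmersion o] (z : Z) :
    L (Z'.presheaf.stalk (o z)) ↔ L (Z.presheaf.stalk z) :=
  ⟨hL (asIso (o.stalkMap z)).commRingCatIsoToRingEquiv, hL (asIso (o.stalkMap z)).commRingCatIsoToRingEquiv.symm⟩

theorem forall_stalk_of_isIso {Z Z' : Scheme.{u}} (e : Z ≅ Z') :
    (∀ z : Z, L (Z.presheaf.stalk z)) ↔ ∀ z : Z', L (Z'.presheaf.stalk z) := by
  refine ⟨fun h z => (stalk_openImmersion hL e.inv z).1 (h _), fun h z => ?_⟩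
  exact (stalk_openImmersion hL e.hom z).1 (h _)

theorem forall_stalk_spec (R : Type u) [CommRing R] :
    (∀ z : Spec (CommRingCat.of R), L ((Spec (CommRingCat.of R)).presheaf.stalk z)) ↔ Loc L R := by
  refine ⟨fun h p _ => hL (Spec.stalkIso (CommRingCat.of R) ⟨p, ‹_›⟩).commRingCatIsoToRingEquiv (h ⟨p, ‹_›⟩),
    fun h z => hL (Spec.stalkIso (CommRingCat.of R) z).commRingCatIsoToRingEquiv.symm (h z.asIdeal)⟩

theorem loc_equiv {R S : Type u} [CommRing R] [CommRing S] (e : R ≃+* S) : Loc L R ↔ Loc L S := by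
  rw [← forall_stalk_spec hL R, ← forall_stalk_spec hL S]
  exact forall_stalk_of_isIso hL (Scheme.Spec.mapIso e.toCommRingCatIso.op).symm

/-- The affine case. -/
theorem q_spec {A B K : Type u} [CommRing A] [CommRing B] [Field K] [Algebra A B] [Algebra A K] :
    Q L (Spec.map (CommRingCat.ofHom (algebraMap A B))) (Spec.map (CommRingCat.ofHom (algebraMap A K))) ↔
      GRA L K (K ⊗[A] B) := by
  have key : ∀ (k' : Type u) [Field k'] [Algebra K k'] [Algebra A k'] [IsScalarTower A K k'],
      (∀ z : (pullback (Spec.map (CommRingCat.ofHom (algebraMap A B))) (Spec.map (CommRingCat.ofHom (algebraMap K k')) ≫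
          Spec.map (CommRingCat.ofHom (algebraMap A K))) : Scheme.{u}),
        L ((pullback (Spec.map (CommRingCat.ofHom (algebraMap A B))) (Spec.map (CommRingCat.ofHom (algebraMap K k')) ≫
          Spec.map (CommRingCat.ofHom (algebraMap A K)))).presheaf.stalk z)) ↔ Loc L (k' ⊗[K] (K ⊗[A] B)) := by
    intro k' _ _ _ _
    have h : Spec.map (CommRingCat.ofHom (algebraMap K k')) ≫ Spec.map (CommRingCat.ofHom (algebraMap A K)) =
        Spec.map (CommRingCat.ofHom (algebraMap A k')) := by
      rw [← Spec.map_comp, ← CommRingCat.ofHom_comp, ← IsScalarTower.algebraMap_eq]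
    rw [forall_stalk_of_isIso hL (pullback.congrHom rfl h ≪≫ pullbackSpecIso A B k'), forall_stalk_spec hL]
    exact loc_equiv hL ((Algebra.TensorProduct.comm A B k').toRingEquiv.trans
      (Algebra.TensorProduct.cancelBaseChange A K K k' B).symm.toRingEquiv)
  refine ⟨fun h k' _ _ hfin => ?_, fun h k' _ α hα => ?_⟩
  · letI : Algebra A k' := ((algebraMap K k').comp (algebraMap A K)).toAlgebra
    haveI : IsScalarTower A K k' := IsScalarTower.of_algebraMap_eq' rfl
    exact (key k').1 (h k' (algebraMap K k') (RingHom.finite_algebraMap.2 hfin))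
  · letI := α.toAlgebra
    letI : Algebra A k' := (α.comp (algebraMap A K)).toAlgebra
    haveI : IsScalarTower A K k' := IsScalarTower.of_algebraMap_eq' rfl
    exact (key k').2 (h k' (RingHom.finite_algebraMap.1 hα))

theorem q_comp_mono {X Y Y' : Scheme.{u}} (f : X ⟶ Y) (j : Y ⟶ Y') [Mono j] {K : Type u} [Field K]
    (σ : Spec (CommRingCat.of K) ⟶ Y) : Q L (f ≫ j) (σ ≫ j) ↔ Q L f σ := by
  refine forall_congr' fun k' => forall_congr' fun _ => forall_congr' fun α => imp_congr Iff.rfl ?_
  let τ := Spec.map (CommRingCat.ofHom α) ≫ σ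
  have h : IsPullback (pullback.fst f τ) (pullback.snd f τ) (f ≫ j) (τ ≫ j) :=
    IsPullback.of_isLimit' ⟨by rw [pullback.condition_assoc]⟩
      (PullbackCone.IsLimit.mk _ (fun s => pullback.lift s.fst s.snd (by
          have := s.condition
          rwa [← Category.assoc, ← Category.assoc, cancel_mono] at this))
        (fun s => pullback.lift_fst _ _ _) (fun s => pullback.lift_snd _ _ _)
        (fun s m h1 h2 => pullback.hom_ext (h1.trans (pullback.lift_fst _ _ _).symm)
          (h2.trans (pullback.lift_snd _ _ _).symm)))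
  exact forall_stalk_of_isIso hL ((pullback.congrHom rfl (Category.assoc _ _ _).symm) ≪≫ h.isoPullback.symm)

theorem q_paste {X Y X' Y' : Scheme.{u}} {f : X ⟶ Y} {f' : X' ⟶ Y'} {g' : X' ⟶ X} {g : Y' ⟶ Y}
    (hc : IsPullback g' f' f g) {K : Type u} [Field K] (σ' : Spec (CommRingCat.of K) ⟶ Y') :
    Q L f' σ' ↔ Q L f (σ' ≫ g) := by
  refine forall_congr' fun k' => forall_congr' fun _ => forall_congr' fun α => imp_congr Iff.rfl ?_
  exact forall_stalk_of_isIso hL ((((IsPullback.of_hasPullback f' _).paste_horiz hc).isoPullback) ≪≫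
    pullback.congrHom rfl (Category.assoc _ _ _))

/-- Covering the fibre by open subschemes of the source. -/
theorem q_iff_cover {X Y : Scheme.{u}} (f : X ⟶ Y) {K : Type u} [Field K] (σ : Spec (CommRingCat.of K) ⟶ Y)
    {ι : Type*} (U : ι → Scheme.{u}) (o : ∀ i, U i ⟶ X) [∀ i, IsOpenImmersion (o i)]
    (hc : ∀ x : X, f x ∈ Set.range σ → ∃ i, x ∈ Set.range (o i)) :
    Q L f σ ↔ ∀ i, Q L (o i ≫ f) σ := by
  refine ⟨fun h i k' _ α hα z => ?_, fun h k' _ α hα z => ?_⟩
  · let τ := Spec.map (CommRingCat.ofHom α) ≫ σ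
    let m : pullback (o i ≫ f) τ ⟶ pullback f τ :=
      (pullbackRightPullbackFstIso f τ (o i)).inv ≫ pullback.snd _ _
    exact (stalk_openImmersion hL m z).1 (h k' α hα (m z))
  · let τ := Spec.map (CommRingCat.ofHom α) ≫ σ
    obtain ⟨i, hi⟩ := hc (pullback.fst f τ z) ⟨Spec.map (CommRingCat.ofHom α) (pullback.snd f τ z), by
      rw [← Scheme.Hom.comp_apply, ← Scheme.Hom.comp_apply, ← Scheme.Hom.comp_apply, pullback.condition]⟩
    let m : pullback (o i ≫ f) τ ⟶ pullback f τ :=
      (pullbackRightPullbackFstIso f τ (o i)).inv ≫ pullback.snd _ _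
    obtain ⟨w, hw⟩ : z ∈ Set.range (pullback.snd (o i) (pullback.fst f τ)) := by
      rw [IsOpenImmersion.range_pullbackSnd]; exact hi
    obtain ⟨w', rfl⟩ := (pullbackRightPullbackFstIso f τ (o i)).inv.homeomorph.surjective w
    rw [← hw]
    exact (stalk_openImmersion hL m w').2 (h i k' α hα w')

theorem q_equiv {X Y : Scheme.{u}} (f : X ⟶ Y) {K K' : Type u} [Field K] [Field K'] (e : K ≃+* K')
    (σ : Spec (CommRingCat.of K) ⟶ Y) :
    Q L f (Spec.map (CommRingCat.ofHom e.toRingHom) ≫ σ) ↔ Q L f σ := by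
  refine ⟨fun h k' _ α hα => ?_, fun h k' _ α hα => ?_⟩
  · intro z
    have hfin : (α.comp e.symm.toRingHom).Finite :=
      hα.comp (RingHom.Finite.of_surjective _ e.symm.surjective)
    have he : Spec.map (CommRingCat.ofHom (α.comp e.symm.toRingHom)) ≫
        Spec.map (CommRingCat.ofHom e.toRingHom) = Spec.map (CommRingCat.ofHom α) := by
      rw [← Spec.map_comp, ← CommRingCat.ofHom_comp]
      congr 2
      ext; simp
    exact (forall_stalk_of_isIso hL (pullback.congrHom rfl (by rw [reassoc_of% he]))).1 (h k' _ hfin) z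
  · intro z
    have hfin : (α.comp e.toRingHom).Finite := hα.comp (RingHom.Finite.of_surjective _ e.surjective)
    have he : Spec.map (CommRingCat.ofHom α) ≫ Spec.map (CommRingCat.ofHom e.toRingHom) =
        Spec.map (CommRingCat.ofHom (α.comp e.toRingHom)) := by
      rw [← Spec.map_comp, ← CommRingCat.ofHom_comp]
    exact (forall_stalk_of_isIso hL (pullback.congrHom rfl (by rw [reassoc_of% he]))).1 (h k' _ hfin) z

omit hL in
/-- A field-valued point landing in an affine open, as a ring map. -/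
theorem exists_preimage {Y : Scheme.{u}} {V : Y.Opens} (hV : IsAffineOpen V) {K : Type u} [Field K]
    (σ : Spec (CommRingCat.of K) ⟶ Y) (h : Set.range σ ⊆ (V : Set Y)) :
    ∃ φ : Γ(Y, V) →+* K, σ = Spec.map (CommRingCat.ofHom φ) ≫ hV.fromSpec := by
  refine ⟨(Spec.preimage (IsOpenImmersion.lift hV.fromSpec σ (by rwa [hV.range_fromSpec]))).hom, ?_⟩
  rw [CommRingCat.ofHom_hom, Spec.map_preimage, IsOpenImmersion.lift_fac]

/-- The property on the fibre, through affine charts. -/
theorem q_iff_charts {X Y : Scheme.{u}} (f : X ⟶ Y) {V : Y.Opens} (hV : IsAffineOpen V) {K : Type u} [Field K]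
    (φ : Γ(Y, V) →+* K) :
    Q L f (Spec.map (CommRingCat.ofHom φ) ≫ hV.fromSpec) ↔
      ∀ (U : X.Opens) (_ : IsAffineOpen U) (e : U ≤ f ⁻¹ᵁ V),
        letI := φ.toAlgebra; letI := (f.appLE V U e).hom.toAlgebra
        GRA L K (K ⊗[Γ(Y, V)] Γ(X, U)) := by
  let σ := Spec.map (CommRingCat.ofHom φ) ≫ hV.fromSpec
  let ι := {U : X.Opens // IsAffineOpen U ∧ U ≤ f ⁻¹ᵁ V}
  have hcover := q_iff_cover hL f σ (fun U : ι => Spec Γ(X, U.1)) (fun U => U.2.1.fromSpec) (fun x hx => by
    obtain ⟨s, hs⟩ := hx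
    have hxV : f x ∈ V := by
      rw [← hs]
      change hV.fromSpec _ ∈ V
      exact hV.range_fromSpec.le ⟨_, rfl⟩
    obtain ⟨U, hU, hxU, hle⟩ := exists_isAffineOpen_mem_and_subset (x := x) (U := f ⁻¹ᵁ V) hxV
    exact ⟨⟨U, hU, hle⟩, by rw [hU.range_fromSpec]; exact hxU⟩)
  rw [hcover]
  letI := φ.toAlgebra
  refine ⟨fun h U hU e => ?_, fun h ⟨U, hU, e⟩ => ?_⟩
  · letI := (f.appLE V U e).hom.toAlgebra
    have h' := h ⟨U, hU, e⟩
    rw [← IsAffineOpen.SpecMap_appLE_fromSpec f hV hU e, q_comp_mono hL] at h'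
    exact (q_spec hL).1 h'
  · letI := (f.appLE V U e).hom.toAlgebra
    show Q L (hU.fromSpec ≫ f) σ
    rw [← IsAffineOpen.SpecMap_appLE_fromSpec f hV hU e, q_comp_mono hL]
    exact (q_spec hL).2 (h U hU e)

omit hL in
/-- The residue point of a prime of an affine open. -/
theorem exists_residue_equiv {Y : Scheme.{u}} {V : Y.Opens} (hV : IsAffineOpen V) (p : Spec Γ(Y, V)) :
    ∃ e : Y.residueField (hV.fromSpec p) ≃+* p.asIdeal.ResidueField,
      Spec.map (CommRingCat.ofHom (algebraMap Γ(Y, V) p.asIdeal.ResidueField)) ≫ hV.fromSpec =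
        Spec.map (CommRingCat.ofHom e.toRingHom) ≫ Y.fromSpecResidueField (hV.fromSpec p) := by
  refine ⟨((asIso (hV.fromSpec.residueFieldMap p)) ≪≫ Scheme.Spec.residueFieldIso Γ(Y, V) p).commRingCatIsoToRingEquiv, ?_⟩
  have h : CommRingCat.ofHom ((asIso (hV.fromSpec.residueFieldMap p) ≪≫
      Scheme.Spec.residueFieldIso Γ(Y, V) p).commRingCatIsoToRingEquiv).toRingHom =
        hV.fromSpec.residueFieldMap p ≫ (Scheme.Spec.residueFieldIso Γ(Y, V) p).hom := rfl
  rw [h, Spec.map_comp, Category.assoc, Scheme.Hom.SpecMap_residueFieldMap_fromSpecResidueField,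
    ← Scheme.Spec.map_residueFieldIso_inv_eq_fromSpecResidueField, ← Category.assoc, ← Category.assoc,
    ← Spec.map_comp, Iso.inv_hom_id, Spec.map_id, Category.id_comp]

end Groth.Agent.GeomFib
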