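import Groth.Agent.GeomFib.Basic

/-! Locally Noetherian, geometrically regular and geometrically normal fibres on affine charts, and their
behaviour under field extensions. -/

set_option autoImplicit false
set_option linter.style.haveILetI false
set_option backward.isDefEq.respectTransparency false
set_option backward.isDefEq.respectTransparency.types false

universe u

open CategoryTheory CategoryTheory.Limits AlgebraicGeometry TopologicalSpace TensorProduct

namespace Groth.Agent.GeomFib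

/-- Locally Noetherian fibre at a field-valued point, through affine charts. -/
theorem noeth_iff_charts {X Y : Scheme.{u}} (f : X ⟶ Y) {V : Y.Opens} (hV : IsAffineOpen V) {K : Type u} [Field K]
    (φ : Γ(Y, V) →+* K) :
    IsLocallyNoetherian (pullback f (Spec.map (CommRingCat.ofHom φ) ≫ hV.fromSpec)) ↔
      ∀ (U : X.Opens) (_ : IsAffineOpen U) (e : U ≤ f ⁻¹ᵁ V),
        letI := φ.toAlgebra; letI := (f.appLE V U e).hom.toAlgebra
        IsNoetherianRing (K ⊗[Γ(Y, V)] Γ(X, U)) := by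
  letI := φ.toAlgebra
  let σ := Spec.map (CommRingCat.ofHom φ) ≫ hV.fromSpec
  have piece : ∀ (U : X.Opens) (hU : IsAffineOpen U) (e : U ≤ f ⁻¹ᵁ V),
      letI := (f.appLE V U e).hom.toAlgebra
      IsLocallyNoetherian (pullback (hU.fromSpec ≫ f) σ) ↔ IsNoetherianRing (K ⊗[Γ(Y, V)] Γ(X, U)) := by
    intro U hU e
    letI := (f.appLE V U e).hom.toAlgebra
    let a := Spec.map (CommRingCat.ofHom (algebraMap Γ(Y, V) Γ(X, U)))
    let b := Spec.map (CommRingCat.ofHom (algebraMap Γ(Y, V) K))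
    have h : IsPullback (pullback.fst a b) (pullback.snd a b) (hU.fromSpec ≫ f) σ := by
      rw [← IsAffineOpen.SpecMap_appLE_fromSpec f hV hU e]
      exact IsPullback.of_isLimit' ⟨by erw [pullback.condition_assoc]; rfl⟩
        (PullbackCone.IsLimit.mk _ (fun s => pullback.lift s.fst s.snd (by
            have := s.condition
            rwa [← Category.assoc, ← Category.assoc, cancel_mono] at this))
          (fun s => pullback.lift_fst _ _ _) (fun s => pullback.lift_snd _ _ _)
          (fun s m h1 h2 => pullback.hom_ext (h1.trans (pullback.lift_fst _ _ _).symm)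
            (h2.trans (pullback.lift_snd _ _ _).symm)))
    let i : pullback (hU.fromSpec ≫ f) σ ≅ Spec (CommRingCat.of (K ⊗[Γ(Y, V)] Γ(X, U))) :=
      h.isoPullback.symm ≪≫ pullbackSpecIso Γ(Y, V) Γ(X, U) K ≪≫
        Scheme.Spec.mapIso ((Algebra.TensorProduct.comm Γ(Y, V) K Γ(X, U)).toRingEquiv.toCommRingCatIso.op)
    rw [show IsNoetherianRing (K ⊗[Γ(Y, V)] Γ(X, U)) ↔
      IsLocallyNoetherian (Spec (CommRingCat.of (K ⊗[Γ(Y, V)] Γ(X, U)))) from (isLocallyNoetherian_Spec (R := CommRingCat.of (K ⊗[Γ(Y, V)] Γ(X, U)))).symm]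
    exact ⟨fun _ => isLocallyNoetherian_of_isOpenImmersion i.inv, fun _ => isLocallyNoetherian_of_isOpenImmersion i.hom⟩
  refine ⟨fun h U hU e => ?_, fun h => ?_⟩
  · let m : pullback (hU.fromSpec ≫ f) σ ⟶ pullback f σ :=
      (pullbackRightPullbackFstIso f σ hU.fromSpec).inv ≫ pullback.snd _ _
    haveI := h
    exact (piece U hU e).1 (isLocallyNoetherian_of_isOpenImmersion m)
  · let ι := {U : X.Opens // IsAffineOpen U ∧ U ≤ f ⁻¹ᵁ V}
    let m : ∀ U : ι, pullback (U.2.1.fromSpec ≫ f) σ ⟶ pullback f σ :=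
      fun U => (pullbackRightPullbackFstIso f σ U.2.1.fromSpec).inv ≫ pullback.snd _ _
    let 𝒰 : (pullback f σ).OpenCover := Scheme.Cover.mkOfCovers ι _ m (fun z => by
      have hxV : f (pullback.fst f σ z) ∈ V := by
        rw [← Scheme.Hom.comp_apply, pullback.condition, Scheme.Hom.comp_apply]
        change hV.fromSpec _ ∈ V
        exact hV.range_fromSpec.le ⟨_, rfl⟩
      obtain ⟨U, hU, hxU, hle⟩ :=
        exists_isAffineOpen_mem_and_subset (x := pullback.fst f σ z) (U := f ⁻¹ᵁ V) hxV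
      obtain ⟨w, hw⟩ : z ∈ Set.range (pullback.snd hU.fromSpec (pullback.fst f σ)) := by
        rw [IsOpenImmersion.range_pullbackSnd]
        exact hU.range_fromSpec.ge hxU
      obtain ⟨w', rfl⟩ := (pullbackRightPullbackFstIso f σ hU.fromSpec).inv.homeomorph.surjective w
      exact ⟨⟨U, hU, hle⟩, w', hw⟩)
      (fun U => by
        show IsOpenImmersion ((pullbackRightPullbackFstIso f σ U.2.1.fromSpec).inv ≫ pullback.snd _ _)
        infer_instance)
    exact (isLocallyNoetherian_iff_openCover 𝒰).2 fun U => (piece U.1 U.2.1 U.2.2).2 (h U.1 U.2.1 U.2.2)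

theorem q_congr (L : ∀ (R : Type u) [CommRing R], Prop) {X Y : Scheme.{u}} (f : X ⟶ Y) {K : Type u} [Field K]
    {σ σ' : Spec (CommRingCat.of K) ⟶ Y} (h : σ = σ') : Q L f σ ↔ Q L f σ' := by subst h; exact Iff.rfl

theorem noeth_congr {X Y : Scheme.{u}} (f : X ⟶ Y) {K : Type u} [Field K]
    {σ σ' : Spec (CommRingCat.of K) ⟶ Y} (h : σ = σ') :
    IsLocallyNoetherian (pullback f σ) ↔ IsLocallyNoetherian (pullback f σ') := by subst h; exact Iff.rfl

theorem noeth_equiv {X Y : Scheme.{u}} (f : X ⟶ Y) {K K' : Type u} [Field K] [Field K'] (e : K ≃+* K')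
    (σ : Spec (CommRingCat.of K) ⟶ Y) :
    IsLocallyNoetherian (pullback f (Spec.map (CommRingCat.ofHom e.toRingHom) ≫ σ)) ↔
      IsLocallyNoetherian (pullback f σ) := by
  let ε := Spec.map (CommRingCat.ofHom e.toRingHom)
  haveI : IsIso ε := by
    have : CommRingCat.ofHom e.toRingHom = e.toCommRingCatIso.hom := rfl
    show IsIso (Spec.map _)
    rw [this]; infer_instance
  let j : pullback f (ε ≫ σ) ⟶ pullback f σ :=
    pullback.lift (pullback.fst _ _) (pullback.snd _ _ ≫ ε) (by rw [Category.assoc, pullback.condition])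
  haveI : IsIso j := by
    refine ⟨pullback.lift (pullback.fst _ _) (pullback.snd _ _ ≫ inv ε)
      (by rw [Category.assoc, IsIso.inv_hom_id_assoc, pullback.condition]), ?_, ?_⟩ <;>
    ext <;> simp [j]
  exact ⟨fun _ => isLocallyNoetherian_of_isOpenImmersion (inv j), fun _ => isLocallyNoetherian_of_isOpenImmersion j⟩

/-- Locally Noetherian fibres, affine-locally. -/
theorem forall_noeth_iff {X Y : Scheme.{u}} (f : X ⟶ Y) :
    (∀ y : Y, IsLocallyNoetherian (f.fiber y)) ↔
      ∀ (U : X.Opens) (V : Y.Opens) (_ : IsAffineOpen U) (_ : IsAffineOpen V) (e : U ≤ f ⁻¹ᵁ V),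
        letI := (f.appLE V U e).hom.toAlgebra
        ∀ (p : Ideal Γ(Y, V)) [p.IsPrime], IsNoetherianRing (p.Fiber Γ(X, U)) := by
  have trans : ∀ (V : Y.Opens) (hV : IsAffineOpen V) (p : Spec Γ(Y, V)),
      IsLocallyNoetherian (f.fiber (hV.fromSpec p)) ↔
      ∀ (U : X.Opens) (_ : IsAffineOpen U) (e : U ≤ f ⁻¹ᵁ V),
        letI := (f.appLE V U e).hom.toAlgebra
        IsNoetherianRing (p.asIdeal.Fiber Γ(X, U)) := by
    intro V hV p
    obtain ⟨e, he⟩ := exists_residue_equiv hV p
    have h := noeth_iff_charts f hV (algebraMap Γ(Y, V) p.asIdeal.ResidueField)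
    rw [noeth_congr f he, noeth_equiv f e] at h
    letI : Algebra Γ(Y, V) p.asIdeal.ResidueField := inferInstance
    refine h.trans (forall_congr' fun U => forall_congr' fun _ => forall_congr' fun e => ?_)
    rw [show (algebraMap Γ(Y, V) p.asIdeal.ResidueField).toAlgebra =
      (inferInstance : Algebra Γ(Y, V) p.asIdeal.ResidueField) from Algebra.algebra_ext _ _ fun _ => rfl]
  refine ⟨fun h U V hU hV e p hp => (trans V hV ⟨p, hp⟩).1 (h _) U hU e, fun h y => ?_⟩
  obtain ⟨V, hV, hy, -⟩ := exists_isAffineOpen_mem_and_subset (x := y) (U := ⊤) trivial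
  obtain ⟨p, rfl⟩ := hV.range_fromSpec.ge hy
  exact (trans V hV p).2 fun U hU e => h U V hU hV e p.asIdeal

/-- A geometric local property of all fibres, affine-locally. -/
theorem forall_q_iff {L : ∀ (R : Type u) [CommRing R], Prop} (hL : IsoInvariant L) {X Y : Scheme.{u}} (f : X ⟶ Y) :
    (∀ y : Y, Q L f (Y.fromSpecResidueField y)) ↔
      ∀ (U : X.Opens) (V : Y.Opens) (_ : IsAffineOpen U) (_ : IsAffineOpen V) (e : U ≤ f ⁻¹ᵁ V),
        letI := (f.appLE V U e).hom.toAlgebra
        ∀ (p : Ideal Γ(Y, V)) [p.IsPrime], GRA L p.ResidueField (p.Fiber Γ(X, U)) := by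
  have trans : ∀ (V : Y.Opens) (hV : IsAffineOpen V) (p : Spec Γ(Y, V)),
      Q L f (Y.fromSpecResidueField (hV.fromSpec p)) ↔
      ∀ (U : X.Opens) (_ : IsAffineOpen U) (e : U ≤ f ⁻¹ᵁ V),
        letI := (f.appLE V U e).hom.toAlgebra
        GRA L p.asIdeal.ResidueField (p.asIdeal.Fiber Γ(X, U)) := by
    intro V hV p
    obtain ⟨e, he⟩ := exists_residue_equiv hV p
    have h := q_iff_charts hL f hV (algebraMap Γ(Y, V) p.asIdeal.ResidueField)
    rw [q_congr L f he] at h
    have h' := (q_equiv hL f e (Y.fromSpecResidueField (hV.fromSpec p))).symm.trans h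
    refine h'.trans (forall_congr' fun U => forall_congr' fun _ => forall_congr' fun e => ?_)
    rw [show (algebraMap Γ(Y, V) p.asIdeal.ResidueField).toAlgebra =
      (inferInstance : Algebra Γ(Y, V) p.asIdeal.ResidueField) from Algebra.algebra_ext _ _ fun _ => rfl]
  refine ⟨fun h U V hU hV e p hp => (trans V hV ⟨p, hp⟩).1 (h _) U hU e, fun h y => ?_⟩
  obtain ⟨V, hV, hy, -⟩ := exists_isAffineOpen_mem_and_subset (x := y) (U := ⊤) trivial
  obtain ⟨p, rfl⟩ := hV.range_fromSpec.ge hy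
  exact (trans V hV p).2 fun U hU e => h U V hU hV e p.asIdeal

/-- Field extensions essentially of finite type do not affect a permanent geometric property. -/
theorem extend_field {L : ∀ (R : Type u) [CommRing R], Prop} (hL : IsoInvariant L)
    (hP : FlatLoc6.Permanence.{u} (fun R _ => IsNoetherianRing R ∧ Loc L R))
    {X Y : Scheme.{u}} (f : X ⟶ Y) {K K' : Type u} [Field K] [Field K'] (β : K →+* K')
    (hβ : β.EssFiniteType) (σ : Spec (CommRingCat.of K) ⟶ Y) :
    (IsLocallyNoetherian (pullback f (Spec.map (CommRingCat.ofHom β) ≫ σ)) ↔ IsLocallyNoetherian (pullback f σ)) ∧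
      (IsLocallyNoetherian (pullback f σ) →
        (Q L f (Spec.map (CommRingCat.ofHom β) ≫ σ) ↔ Q L f σ)) := by
  obtain ⟨V, hV, hy, -⟩ :=
    exists_isAffineOpen_mem_and_subset (x := σ (IsLocalRing.closedPoint K)) (U := ⊤) trivial
  obtain ⟨φ, rfl⟩ := exists_preimage hV σ (by
    rintro _ ⟨z, rfl⟩
    rwa [Subsingleton.elim z (IsLocalRing.closedPoint K)])
  have hσ : Spec.map (CommRingCat.ofHom β) ≫ Spec.map (CommRingCat.ofHom φ) ≫ hV.fromSpec =
      Spec.map (CommRingCat.ofHom (β.comp φ)) ≫ hV.fromSpec := by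
    rw [← Category.assoc, ← Spec.map_comp, ← CommRingCat.ofHom_comp]
  rw [noeth_congr f hσ, q_congr L f hσ, noeth_iff_charts f hV φ, noeth_iff_charts f hV (β.comp φ),
    q_iff_charts hL f hV φ, q_iff_charts hL f hV (β.comp φ)]
  letI := φ.toAlgebra
  letI := β.toAlgebra
  letI := (β.comp φ).toAlgebra
  haveI : IsScalarTower Γ(Y, V) K K' := IsScalarTower.of_algebraMap_eq' rfl
  haveI : Algebra.EssFiniteType K K' := hβ
  refine ⟨forall_congr' fun U => forall_congr' fun _ => forall_congr' fun e => ?_, fun hN => ?_⟩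
  · letI := (f.appLE V U e).hom.toAlgebra
    let c := (Algebra.TensorProduct.cancelBaseChange Γ(Y, V) K K' K' Γ(X, U)).toRingEquiv
    refine ⟨fun h => ?_, fun h => ?_⟩
    · haveI := h
      haveI : IsNoetherianRing (K' ⊗[K] (K ⊗[Γ(Y, V)] Γ(X, U))) := isNoetherianRing_of_ringEquiv _ c.symm
      haveI : IsNoetherianRing ((K ⊗[Γ(Y, V)] Γ(X, U)) ⊗[K] K') :=
        isNoetherianRing_of_ringEquiv _ (Algebra.TensorProduct.comm K K' (K ⊗[Γ(Y, V)] Γ(X, U))).toRingEquiv
      exact FlatLoc6.isNoetherianRing_of_faithfullyFlat _ ((K ⊗[Γ(Y, V)] Γ(X, U)) ⊗[K] K')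
    · haveI := h
      haveI := FlatLoc6.isNoetherianRing_baseChange_ess K (K ⊗[Γ(Y, V)] Γ(X, U)) K'
      exact isNoetherianRing_of_ringEquiv _ c
  · refine forall_congr' fun U => forall_congr' fun hU => forall_congr' fun e => ?_
    letI := (f.appLE V U e).hom.toAlgebra
    haveI : IsNoetherianRing (K ⊗[Γ(Y, V)] Γ(X, U)) := hN U hU e
    haveI : IsNoetherianRing (K' ⊗[K] (K ⊗[Γ(Y, V)] Γ(X, U))) :=
      FlatLoc6.isNoetherianRing_baseChange_ess K (K ⊗[Γ(Y, V)] Γ(X, U)) K'
    have h := hP.baseChange_iff K (K ⊗[Γ(Y, V)] Γ(X, U)) K'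
    let c := Algebra.TensorProduct.cancelBaseChange Γ(Y, V) K K' K' Γ(X, U)
    refine ⟨fun hG k' _ _ hfin => ?_, fun hG k' _ _ hfin => ?_⟩
    · exact (h.2 (fun L' _ _ hL' => ⟨haveI := hL'; FlatLoc6.isNoetherianRing_tensor_finite K' L' _,
        (loc_equiv hL (Algebra.TensorProduct.congr (AlgEquiv.refl (R := K') (A₁ := L')) c).toRingEquiv).2
          (hG L' hL')⟩) k' hfin).2
    · exact (loc_equiv hL (Algebra.TensorProduct.congr (AlgEquiv.refl (R := K') (A₁ := k')) c).toRingEquiv).1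
        (h.1 (fun k'' _ _ hk'' => ⟨haveI := hk''; FlatLoc6.isNoetherianRing_tensor_finite K k'' _, hG k'' hk''⟩)
          k' hfin).2

end Groth.Agent.GeomFib
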