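import Groth.Agent.GeomFib.Morphism
import Groth.Agent.SrcDescent.SmoothFppf
import Groth.Agent.Triage.CMBC

/-! Regular and normal morphisms: fibres, and descent along fppf base change. -/

set_option autoImplicit false
set_option linter.style.haveILetI false
set_option backward.isDefEq.respectTransparency false
set_option backward.isDefEq.respectTransparency.types false

universe u

open CategoryTheory CategoryTheory.Limits AlgebraicGeometry TopologicalSpace TensorProduct

namespace Groth.Agent.GeomFib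

/-- Regular local rings. -/
def RegL (R : Type u) [CommRing R] : Prop := IsRegularLocalRing R

/-- Normal local domains. -/
def NormL (R : Type u) [CommRing R] : Prop := IsDomain R ∧ IsIntegrallyClosed R

theorem isoInvariant_regL : IsoInvariant.{u} RegL := fun e h => by
  haveI : IsRegularLocalRing _ := h
  exact IsRegularLocalRing.of_ringEquiv e

theorem isoInvariant_normL : IsoInvariant.{u} NormL := fun {R S} _ _ e h => by
  haveI := h.1
  haveI := h.2
  exact ⟨e.symm.toMulEquiv.isDomain, IsIntegrallyClosed.of_equiv (R := R) e⟩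

theorem isRegularRing_iff_loc (R : Type u) [CommRing R] : IsRegularRing R ↔ IsNoetherianRing R ∧ Loc RegL R :=
  ⟨fun h => ⟨inferInstance, fun p _ => h.isRegularLocalRing_localization p⟩, fun h =>
    { noetherian := h.1.noetherian, isRegularLocalRing_localization := fun p _ => h.2 p }⟩

theorem perm_reg : FlatLoc6.Permanence.{u} (fun R _ => IsNoetherianRing R ∧ Loc RegL R) where
  equiv e h := (isRegularRing_iff_loc _).1 (FlatLoc6.permanence_regular.equiv e ((isRegularRing_iff_loc _).2 h))
  smooth A B _ _ _ _ h := (isRegularRing_iff_loc B).1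
    (FlatLoc6.permanence_regular.smooth A B ((isRegularRing_iff_loc A).2 h))
  loc M C _ _ _ h := (isRegularRing_iff_loc C).1
    (FlatLoc6.permanence_regular.loc M C ((isRegularRing_iff_loc _).2 h))
  desc A B _ _ _ _ h := (isRegularRing_iff_loc A).1
    (FlatLoc6.permanence_regular.desc A B ((isRegularRing_iff_loc B).2 h))

theorem perm_norm : FlatLoc6.Permanence.{u} (fun R _ => IsNoetherianRing R ∧ Loc NormL R) :=
  FlatLoc6.permanence_normal

theorem isGeometricallyRegular_iff (k S : Type u) [Field k] [CommRing S] [Algebra k S] [IsNoetherianRing S] :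
    CAlg.IsGeometricallyRegular k S ↔ GRA RegL k S := by
  refine ⟨fun h k' _ _ hk' => ((isRegularRing_iff_loc _).1 (h k' hk')).2, fun h k' _ _ hk' => ?_⟩
  haveI := hk'
  exact (isRegularRing_iff_loc _).2 ⟨FlatLoc6.isNoetherianRing_tensor_finite k k' S, h k' hk'⟩

theorem flat_iff_appLE {X Y : Scheme.{u}} (f : X ⟶ Y) :
    Flat f ↔ ∀ (U : X.Opens) (V : Y.Opens) (_ : IsAffineOpen U) (_ : IsAffineOpen V) (e : U ≤ f ⁻¹ᵁ V),
      letI := (f.appLE V U e).hom.toAlgebra
      Module.Flat Γ(Y, V) Γ(X, U) := by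
  rw [HasRingHomProperty.iff_appLE (P := @Flat)]
  exact ⟨fun h U V hU hV e => h ⟨V, hV⟩ ⟨U, hU⟩ e, fun h V U e => h U.1 V.1 U.2 V.2 e⟩

/-- Regular morphisms: flat, with locally Noetherian geometrically regular fibres. -/
theorem regular_iff {X Y : Scheme.{u}} (f : X ⟶ Y) :
    (∀ (U : X.Opens) (V : Y.Opens) (hU : IsAffineOpen U) (hV : IsAffineOpen V) (hUV : U ≤ f ⁻¹ᵁ V),
        letI := (f.appLE V U hUV).hom.toAlgebra
        CAlg.IsRegularHom Γ(Y, V) Γ(X, U)) ↔
      Flat f ∧ (∀ y, IsLocallyNoetherian (f.fiber y)) ∧ ∀ y, Q RegL f (Y.fromSpecResidueField y) := by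
  rw [flat_iff_appLE, forall_noeth_iff, forall_q_iff isoInvariant_regL]
  refine ⟨fun h => ⟨fun U V hU hV e => (h U V hU hV e).1, fun U V hU hV e p hp => ((h U V hU hV e).2 p).1,
    fun U V hU hV e p hp => ?_⟩, fun h U V hU hV e => ?_⟩
  · letI := (f.appLE V U e).hom.toAlgebra
    haveI := ((h U V hU hV e).2 p).1
    exact (isGeometricallyRegular_iff _ _).1 ((h U V hU hV e).2 p).2
  · letI := (f.appLE V U e).hom.toAlgebra
    refine ⟨h.1 U V hU hV e, fun p hp => ⟨h.2.1 U V hU hV e p, ?_⟩⟩
    haveI := h.2.1 U V hU hV e p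
    exact (isGeometricallyRegular_iff _ _).2 (h.2.2 U V hU hV e p)

/-- Normal morphisms: flat, with geometrically normal fibres. -/
theorem normal_iff {X Y : Scheme.{u}} (f : X ⟶ Y) :
    (∀ (U : X.Opens) (V : Y.Opens) (hU : IsAffineOpen U) (hV : IsAffineOpen V) (hUV : U ≤ f ⁻¹ᵁ V),
        letI := (f.appLE V U hUV).hom.toAlgebra
        EGA4.IsNormalHom Γ(Y, V) Γ(X, U)) ↔
      Flat f ∧ ∀ y, Q NormL f (Y.fromSpecResidueField y) := by
  rw [flat_iff_appLE, forall_q_iff isoInvariant_normL]
  exact ⟨fun h => ⟨fun U V hU hV e => (h U V hU hV e).1, fun U V hU hV e p hp => (h U V hU hV e).2 p⟩,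
    fun h U V hU hV e => ⟨h.1 U V hU hV e, fun p hp => h.2 U V hU hV e p⟩⟩

/-- Descent of flatness and of geometric fibre properties along an fppf base change. -/
theorem fppf_iff {L : ∀ (R : Type u) [CommRing R], Prop} (hL : IsoInvariant L)
    (hP : FlatLoc6.Permanence.{u} (fun R _ => IsNoetherianRing R ∧ Loc L R))
    {X Y X' Y' : Scheme.{u}} (f : X ⟶ Y) (f' : X' ⟶ Y') (g' : X' ⟶ X) (g : Y' ⟶ Y)
    [Flat g] [LocallyOfFinitePresentation g] [Surjective g] (hc : IsPullback g' f' f g) :
    (Flat f ∧ (∀ y, IsLocallyNoetherian (f.fiber y)) ∧ ∀ y, Q L f (Y.fromSpecResidueField y)) ↔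
      (Flat f' ∧ (∀ y, IsLocallyNoetherian (f'.fiber y)) ∧ ∀ y, Q L f' (Y'.fromSpecResidueField y)) := by
  have hfl : Flat f ↔ Flat f' := by
    refine ⟨fun h => MorphismProperty.of_isPullback hc h, fun h => ?_⟩
    haveI := h
    haveI : Flat g' := MorphismProperty.of_isPullback hc.flip ‹Flat g›
    haveI : LocallyOfFinitePresentation g' := MorphismProperty.of_isPullback hc.flip ‹LocallyOfFinitePresentation g›
    haveI : Surjective g' := MorphismProperty.of_isPullback hc.flip ‹Surjective g›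
    haveI : Flat (g' ≫ f) := by rw [hc.w]; infer_instance
    exact SrcDescent.flat_of_fppf_comp g' f
  have key : ∀ y' : Y', (IsLocallyNoetherian (f'.fiber y') ↔ IsLocallyNoetherian (f.fiber (g y'))) ∧
      (IsLocallyNoetherian (f.fiber (g y')) →
        (Q L f' (Y'.fromSpecResidueField y') ↔ Q L f (Y.fromSpecResidueField (g y')))) := by
    intro y'
    have hσ : Y'.fromSpecResidueField y' ≫ g =
        Spec.map (CommRingCat.ofHom (g.residueFieldMap y').hom) ≫ Y.fromSpecResidueField (g y') := by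
      rw [CommRingCat.ofHom_hom, Scheme.Hom.SpecMap_residueFieldMap_fromSpecResidueField]
    obtain ⟨h1, h2⟩ := extend_field hL hP f (g.residueFieldMap y').hom
      (Triage.CMBC.essFiniteType_residueFieldMap g y') (Y.fromSpecResidueField (g y'))
    let i := ((IsPullback.of_hasPullback f' (Y'.fromSpecResidueField y')).paste_horiz hc).isoPullback
    have h3 : IsLocallyNoetherian (f'.fiber y') ↔
        IsLocallyNoetherian (pullback f (Y'.fromSpecResidueField y' ≫ g)) :=
      ⟨fun h => haveI : IsLocallyNoetherian (pullback f' (Y'.fromSpecResidueField y')) := h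
          isLocallyNoetherian_of_isOpenImmersion i.inv,
        fun h => haveI := h; isLocallyNoetherian_of_isOpenImmersion i.hom⟩
    refine ⟨h3.trans ((noeth_congr f hσ).trans h1), fun hN => ?_⟩
    exact (q_paste hL hc _).trans ((q_congr L f hσ).trans (h2 hN))
  refine ⟨fun ⟨h1, h2, h3⟩ => ⟨hfl.1 h1, fun y' => (key y').1.2 (h2 _), fun y' => ((key y').2 (h2 _)).2 (h3 _)⟩,
    fun ⟨h1, h2, h3⟩ => ⟨hfl.2 h1, fun y => ?_, fun y => ?_⟩⟩
  · obtain ⟨y', rfl⟩ := g.surjective y
    exact (key y').1.1 (h2 y')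
  · obtain ⟨y', rfl⟩ := g.surjective y
    exact ((key y').2 ((key y').1.1 (h2 y'))).1 (h3 y')

/-- A geometric fibre property, on the affine opens of one fibre. -/
theorem q_fibre_iff {L : ∀ (R : Type u) [CommRing R], Prop} (hL : IsoInvariant L) {X Y : Scheme.{u}}
    (f : X ⟶ Y) (y : Y) :
    Q L f (Y.fromSpecResidueField y) ↔ ∀ (W : (f.fiber y).Opens), IsAffineOpen W →
      letI : Algebra ↑(Y.residueField y) ↑Γ(f.fiber y, W) := ((Scheme.ΓSpecIso (Y.residueField y)).inv ≫
        (f.fiberToSpecResidueField y).appTop ≫ (f.fiber y).presheaf.map (homOfLE le_top).op).hom.toAlgebra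
      GRA L (Y.residueField y) Γ(f.fiber y, W) := by
  let K : Type u := Y.residueField y
  let π : f.fiber y ⟶ Spec (CommRingCat.of K) := f.fiberToSpecResidueField y
  have h1 : Q L f (Y.fromSpecResidueField y) ↔ Q L π (𝟙 (Spec (CommRingCat.of K))) :=
    ((q_paste hL (IsPullback.of_hasPullback f (Y.fromSpecResidueField y)) (K := K) (𝟙 _)).trans
      (q_congr L f (Category.id_comp _))).symm
  rw [h1]
  let ι := {W : (f.fiber y).Opens // IsAffineOpen W}
  rw [q_iff_cover hL π _ (fun W : ι => Spec Γ(f.fiber y, W.1)) (fun W => W.2.fromSpec) (fun x _ => by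
    obtain ⟨W, hW, hxW, -⟩ := exists_isAffineOpen_mem_and_subset (x := x) (U := ⊤) trivial
    exact ⟨⟨W, hW⟩, by rw [hW.range_fromSpec]; exact hxW⟩)]
  have piece : ∀ (W : (f.fiber y).Opens) (hW : IsAffineOpen W),
      letI : Algebra K ↑Γ(f.fiber y, W) := ((Scheme.ΓSpecIso (Y.residueField y)).inv ≫
        (f.fiberToSpecResidueField y).appTop ≫ (f.fiber y).presheaf.map (homOfLE le_top).op).hom.toAlgebra
      Q L (hW.fromSpec ≫ π) (𝟙 (Spec (CommRingCat.of K))) ↔ GRA L K Γ(f.fiber y, W) := by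
    intro W hW
    letI : Algebra K ↑Γ(f.fiber y, W) := ((Scheme.ΓSpecIso (Y.residueField y)).inv ≫
      (f.fiberToSpecResidueField y).appTop ≫ (f.fiber y).presheaf.map (homOfLE le_top).op).hom.toAlgebra
    have hw : hW.fromSpec ≫ π = Spec.map (CommRingCat.ofHom (algebraMap K Γ(f.fiber y, W))) := by
      have hT := isAffineOpen_top (Spec (CommRingCat.of K))
      rw [← IsAffineOpen.SpecMap_appLE_fromSpec π hT hW le_top, IsAffineOpen.fromSpec_top,
        Scheme.isoSpec_Spec_inv, ← Spec.map_comp]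
      rfl
    have hid : 𝟙 (Spec (CommRingCat.of K)) = Spec.map (CommRingCat.ofHom (algebraMap K K)) := by
      rw [← Spec.map_id]; rfl
    rw [hw, q_congr L _ hid, q_spec hL]
    refine forall_congr' fun k' => forall_congr' fun _ => forall_congr' fun _ => imp_congr Iff.rfl ?_
    exact loc_equiv hL (Algebra.TensorProduct.congr (AlgEquiv.refl (R := K) (A₁ := k'))
      (Algebra.TensorProduct.lid K Γ(f.fiber y, W))).toRingEquiv
  exact ⟨fun h W hW => (piece W hW).1 (h ⟨W, hW⟩), fun h W => (piece W.1 W.2).2 (h W.1 W.2)⟩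

end Groth.Agent.GeomFib
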